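import Groth.Agent.EtStruct.Core
import Groth.Agent.CBC.GeomRedEtale
import Groth.Agent.GrpScheme.HomFlat
import Groth.Agent.RegLoc.UFD
import Groth.Agent.RegLoc.Basic
import Groth.Agent.S15942

/-!
# Integral closures in finite étale algebras and smooth algebras over Dedekind domains
-/

set_option autoImplicit false
universe u

open CategoryTheory AlgebraicGeometry TensorProduct IsLocalRing

noncomputable section

namespace Groth.Agent.FinEtNeron67

theorem isReduced_of_smooth_field (k A : Type u) [Field k] [CommRing A] [Algebra k A] [Algebra.Smooth k A] :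
    IsReduced A := by
  let g : Spec (CommRingCat.of A) ⟶ Spec (CommRingCat.of k) := Spec.map (CommRingCat.ofHom (algebraMap k A))
  have : Smooth g := HasRingHomProperty.Spec_iff.2 (RingHom.smooth_algebraMap.2 inferInstance)
  have := GrpScheme.HomFlat.isReduced_of_smooth (K := k) g
  exact (affine_isReduced_iff (CommRingCat.of A)).1 this

theorem isGeometricallyReduced_of_smooth (k A : Type u) [Field k] [CommRing A] [Algebra k A] [Algebra.Smooth k A] :
    Algebra.IsGeometricallyReduced k A :=
  (Algebra.isGeometricallyReduced_field_iff k A).2 (isReduced_of_smooth_field (AlgebraicClosure k) _)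

theorem isReduced_tensor_localization {k A L Ω : Type u} [CommRing k] [CommRing A] [CommRing L] [CommRing Ω]
    [Algebra k A] [Algebra k L] [Algebra k Ω] [Algebra A L] [IsScalarTower k A L] (M : Submonoid A) [IsLocalization M L]
    [IsReduced (Ω ⊗[k] A)] : IsReduced (Ω ⊗[k] L) := by
  haveI : IsReduced (A ⊗[k] Ω) :=
    isReduced_of_injective (Algebra.TensorProduct.comm k A Ω) (AlgEquiv.injective _)
  haveI : IsReduced ((A ⊗[k] Ω) ⊗[A] L) :=
    isReduced_localizationPreserves (Algebra.algebraMapSubmonoid (A ⊗[k] Ω) M) _ inferInstance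
  haveI : IsReduced (L ⊗[A] (A ⊗[k] Ω)) :=
    isReduced_of_injective (Algebra.TensorProduct.comm A L (A ⊗[k] Ω)) (AlgEquiv.injective _)
  haveI : IsReduced (L ⊗[k] Ω) :=
    isReduced_of_injective (Algebra.TensorProduct.cancelBaseChange k A A L Ω).symm (AlgEquiv.injective _)
  exact isReduced_of_injective (Algebra.TensorProduct.comm k Ω L) (AlgEquiv.injective _)

section core

variable {R B : Type u} [CommRing R] [IsDedekindDomain R] [CommRing B] [Algebra R B] [Algebra.Smooth R B]
  (q : Ideal B) [q.IsPrime]

include R in
theorem regular_localization : IsRegularLocalRing (Localization.AtPrime q) := by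
  let g : Spec (CommRingCat.of B) ⟶ Spec (CommRingCat.of R) := Spec.map (CommRingCat.ofHom (algebraMap R B))
  have : Smooth g := HasRingHomProperty.Spec_iff.2 (RingHom.smooth_algebraMap.2 inferInstance)
  have hR : ∀ s : Spec (CommRingCat.of R), IsRegularLocalRing ((Spec (CommRingCat.of R)).presheaf.stalk s) := fun (s : PrimeSpectrum R) => by
    have key : ∀ (P : Ideal R) [P.IsPrime], IsRegularLocalRing (Localization.AtPrime P) := by
      intro P hP
      have : IsRegularRing R := inferInstance
      infer_instance
    haveI := s.isPrime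
    exact @IsRegularLocalRing.of_ringEquiv _ _ (key s.asIdeal) _ _
      (IsLocalization.algEquiv s.asIdeal.primeCompl (Localization.AtPrime s.asIdeal)
        ((Spec.structureSheaf R).presheaf.stalk s)).toRingEquiv
  have key2 : ∀ x : PrimeSpectrum B, IsRegularLocalRing (Localization.AtPrime x.asIdeal) := fun x =>
    haveI := x.isPrime
    @IsRegularLocalRing.of_ringEquiv _ _ (Groth.Agent.S15942.regular_of_smooth g hR x) _ _
      (IsLocalization.algEquiv x.asIdeal.primeCompl (Localization.AtPrime x.asIdeal)
        ((Spec.structureSheaf B).presheaf.stalk x)).toRingEquiv.symm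
  exact key2 ⟨q, inferInstance⟩

include R in
theorem isDomain_localization : IsDomain (Localization.AtPrime q) := by
  have := regular_localization (R := R) q
  exact RegLoc.isDomain _

include R in
theorem isIntegrallyClosed_localization :
    haveI := isDomain_localization (R := R) q
    IsIntegrallyClosed (Localization.AtPrime q) := by
  have := regular_localization (R := R) q
  have := RegLoc.isDomain (Localization.AtPrime q)
  have := RegLoc.UFD.uniqueFactorizationMonoid (Localization.AtPrime q)
  infer_instance

theorem algebraMap_ne_zero_localization {r : R} (hr : r ≠ 0) :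
    algebraMap R (Localization.AtPrime q) r ≠ 0 := by
  have : Module.Flat R (Localization.AtPrime q) :=
    Module.Flat.trans R B _
  intro h
  have h1 := Module.Flat.isSMulRegular_of_isRegular (M := Localization.AtPrime q) (isRegular_of_ne_zero hr)
  exact one_ne_zero (h1 (show r • (1 : Localization.AtPrime q) = r • 0 by rw [Algebra.smul_def, mul_one, h, smul_zero]))

variable {C : Type u} [CommRing C] [IsDedekindDomain C] [Algebra R C] [Module.Finite R C] [FaithfulSMul R C]

/-- a Dedekind extension embedded in a local ring of a smooth algebra is unramified at the centre -/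
theorem isEtaleAt_of_injective (φ : C →ₐ[R] Localization.AtPrime q) (hφ : Function.Injective φ)
    (hP : q.under R ≠ ⊥) :
    Algebra.IsEtaleAt R ((maximalIdeal (Localization.AtPrime q)).comap φ.toRingHom) := by
  let D := Localization.AtPrime q
  haveI : IsDomain D := isDomain_localization (R := R) q
  let Q := (maximalIdeal D).comap φ.toRingHom
  let P := q.under R
  haveI : P.IsPrime := inferInstance
  haveI hPmax : P.IsMaximal := Ideal.IsPrime.isMaximal inferInstance hP
  have hcomap : (maximalIdeal D).comap (algebraMap B D) = q := IsLocalization.AtPrime.under_maximalIdeal D q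
  haveI hQP : Q.LiesOver P := ⟨by
    show P = Q.comap (algebraMap R C)
    rw [Ideal.comap_comap, show φ.toRingHom.comp (algebraMap R C) = algebraMap R D from φ.comp_algebraMap,
      IsScalarTower.algebraMap_eq R B D, ← Ideal.comap_comap, hcomap]⟩
  haveI : Q.IsMaximal := Ideal.IsMaximal.of_liesOver_isMaximal Q P
  let k := R ⧸ P
  letI : Field k := Ideal.Quotient.field P
  let A := k ⊗[R] B
  let PD := P.map (algebraMap R D)
  have hPDm : PD ≤ maximalIdeal D := by
    rw [Ideal.map_le_iff_le_comap, IsScalarTower.algebraMap_eq R B D, ← Ideal.comap_comap,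
      hcomap]
  -- the special fibre of the smooth algebra
  let e : A ≃ₐ[R] B ⧸ P.map (algebraMap R B) :=
    (Algebra.TensorProduct.comm R k B).trans ((Algebra.TensorProduct.quotIdealMapEquivTensorQuot B P).symm.restrictScalars R)
  letI : Algebra k (D ⧸ PD) :=
    (Ideal.quotientMap PD (algebraMap R D) Ideal.le_comap_map).toAlgebra
  haveI : IsScalarTower R k (D ⧸ PD) := IsScalarTower.of_algebraMap_eq fun r => rfl
  haveI hgr : Algebra.IsGeometricallyReduced k (D ⧸ PD) := by
    have hA := isGeometricallyReduced_of_smooth k A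
    letI : Algebra (B ⧸ P.map (algebraMap R B)) (D ⧸ PD) :=
      (Ideal.quotientMap PD (algebraMap B D) (by
        rw [Ideal.map_le_iff_le_comap, Ideal.comap_comap, ← IsScalarTower.algebraMap_eq]
        exact Ideal.le_comap_map)).toAlgebra
    let M := q.primeCompl.map (Ideal.Quotient.mk (P.map (algebraMap R B)))
    haveI : IsLocalization M (D ⧸ PD) := by
      have hmap : PD = (P.map (algebraMap R B)).map (algebraMap B D) := by
        rw [Ideal.map_map, ← IsScalarTower.algebraMap_eq]
      refine IsLocalization.of_surjective q.primeCompl D (Ideal.Quotient.mk (P.map (algebraMap R B)))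
        Ideal.Quotient.mk_surjective (Ideal.Quotient.mk PD) Ideal.Quotient.mk_surjective ?_ ?_
      · ext b; rfl
      · rw [Ideal.mk_ker, Ideal.mk_ker, hmap]
    rw [Algebra.isGeometricallyReduced_field_iff]
    let Ω := AlgebraicClosure k
    haveI : IsReduced (Ω ⊗[k] A) := (Algebra.isGeometricallyReduced_field_iff k A).1 hA
    letI : Algebra A (D ⧸ PD) := ((algebraMap (B ⧸ P.map (algebraMap R B)) (D ⧸ PD)).comp e.toRingHom).toAlgebra
    haveI : IsScalarTower k A (D ⧸ PD) := IsScalarTower.of_algebraMap_eq (R := k) (S := A) (A := D ⧸ PD) fun r => by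
      obtain ⟨r, rfl⟩ := Ideal.Quotient.mk_surjective (I := P) r
      show algebraMap R (D ⧸ PD) r = algebraMap (B ⧸ P.map (algebraMap R B)) (D ⧸ PD) (e (algebraMap R A r))
      rw [e.commutes]
      show Ideal.Quotient.mk PD (algebraMap R D r) = Ideal.Quotient.mk PD (algebraMap B D (algebraMap R B r))
      rw [← IsScalarTower.algebraMap_apply]
    let M' := M.map e.symm.toRingHom
    haveI : IsLocalization M' (D ⧸ PD) :=
      IsLocalization.isLocalization_of_base_ringEquiv M (D ⧸ PD) e.symm.toRingEquiv
    exact isReduced_tensor_localization (A := A) M'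
  haveI hred : IsReduced (D ⧸ PD) := Algebra.isReduced_of_isGeometricallyReduced k
  -- the extension of `φ` to the local ring at the centre
  let CQ := Localization.AtPrime Q
  let ψ : CQ →+* D := IsLocalization.lift (M := Q.primeCompl) (g := φ.toRingHom) fun c =>
    not_not.1 fun hc => c.2 ((mem_maximalIdeal _).2 hc)
  have hψ : ∀ c, ψ (algebraMap C CQ c) = φ c := fun c => IsLocalization.lift_eq _ _
  have hψR : ∀ r, ψ (algebraMap R CQ r) = algebraMap R D r := fun r => by
    rw [IsScalarTower.algebraMap_apply R C CQ, hψ, φ.commutes]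
  have hψi : Function.Injective ψ := by
    rw [IsLocalization.lift_injective_iff]
    intro x y
    rw [(IsLocalization.injective CQ Q.primeCompl_le_nonZeroDivisors).eq_iff]
    exact hφ.eq_iff.symm
  have hQ0 : Q ≠ ⊥ := fun h => hP (by
    rw [show q.under R = Ideal.comap (algebraMap R C) Q from hQP.over, h]
    exact Ideal.comap_bot_of_injective _ (FaithfulSMul.algebraMap_injective R C))
  haveI : IsDiscreteValuationRing CQ := IsLocalization.AtPrime.isDiscreteValuationRing_of_dedekind_domain C hQ0 CQ
  haveI : IsLocalHom ψ := ⟨fun x hx => by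
    obtain ⟨c, s, rfl⟩ := IsLocalization.exists_mk'_eq Q.primeCompl x
    rw [IsLocalization.lift_mk'] at hx
    have hc : c ∉ Q := fun hc => ((mem_maximalIdeal _).1 hc) (isUnit_of_mul_isUnit_left hx)
    exact (IsLocalization.AtPrime.isUnit_mk'_iff CQ Q c s).2 hc⟩
  have hmax : P.map (algebraMap R CQ) = maximalIdeal CQ := by
    have hle : P.map (algebraMap R CQ) ≤ maximalIdeal CQ := by
      rw [Ideal.map_le_iff_le_comap]
      intro r hr
      show algebraMap R CQ r ∈ maximalIdeal CQ
      rw [mem_maximalIdeal]
      intro hu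
      exact (mem_maximalIdeal _).1 (hPDm (Ideal.mem_map_of_mem _ hr)) (hψR r ▸ hu.map ψ)
    obtain ⟨t, ht⟩ := IsDiscreteValuationRing.exists_irreducible CQ
    obtain ⟨r, hrP, hr0⟩ := Submodule.exists_mem_ne_zero_of_ne_bot hP
    have hne : P.map (algebraMap R CQ) ≠ ⊥ := fun h => by
      have hm := Ideal.mem_map_of_mem (algebraMap R CQ) hrP
      rw [h] at hm
      have : algebraMap R CQ r = 0 := (Submodule.mem_bot _).1 hm
      exact algebraMap_ne_zero_localization q hr0 (by rw [← hψR, this, map_zero])
    obtain ⟨n, hn⟩ := IsDiscreteValuationRing.ideal_eq_span_pow_irreducible hne ht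
    have hmap : PD = (P.map (algebraMap R CQ)).map ψ := by
      rw [Ideal.map_map, show ψ.comp (algebraMap R CQ) = algebraMap R D from RingHom.ext hψR]
    rw [hn, Ideal.map_span, Set.image_singleton, map_pow] at hmap
    match n with
    | 0 => exact absurd (top_le_iff.1 ((by rw [hn, pow_zero, Ideal.span_singleton_one] : P.map (algebraMap R CQ) = ⊤) ▸ hle))
            (maximalIdeal.isMaximal CQ).ne_top
    | 1 => rw [hn, pow_one, ht.maximalIdeal_eq]
    | m + 2 =>
      exfalso
      have h1 : Ideal.Quotient.mk PD (ψ t) = 0 := IsReduced.eq_zero _ ⟨m + 2, by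
        rw [← map_pow, Ideal.Quotient.eq_zero_iff_mem, hmap]
        exact Ideal.mem_span_singleton_self _⟩
      rw [Ideal.Quotient.eq_zero_iff_mem, hmap, Ideal.mem_span_singleton] at h1
      obtain ⟨b, hb⟩ := h1
      have ht0 : ψ t ≠ 0 := fun h => ht.ne_zero (hψi (h.trans (map_zero ψ).symm))
      have h2 : ψ t * (ψ t ^ m * b) = 1 := by
        apply mul_left_cancel₀ ht0
        rw [mul_one]
        conv_rhs => rw [hb]
        ring
      exact ht.not_isUnit ((IsUnit.of_mul_eq_one _ h2).of_map ψ t)
  have hsep : Algebra.IsSeparable k (C ⧸ Q) := by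
    let θ : C ⧸ Q →+* D ⧸ PD := Ideal.Quotient.lift Q ((Ideal.Quotient.mk PD).comp φ.toRingHom) fun c hc => by
      show Ideal.Quotient.mk PD (φ c) = 0
      rw [Ideal.Quotient.eq_zero_iff_mem, ← hψ]
      have : algebraMap C CQ c ∈ maximalIdeal CQ := (IsLocalization.AtPrime.to_map_mem_maximal_iff CQ Q c).2 hc
      rw [← hmax] at this
      have := Ideal.mem_map_of_mem ψ this
      rw [Ideal.map_map, show ψ.comp (algebraMap R CQ) = algebraMap R D from RingHom.ext hψR] at this
      exact this
    let θ' : C ⧸ Q →ₐ[k] D ⧸ PD := AlgHom.mk θ (fun r => by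
      obtain ⟨r, rfl⟩ := Ideal.Quotient.mk_surjective (I := P) r
      show Ideal.Quotient.mk PD (φ (algebraMap R C r)) = Ideal.Quotient.mk PD (algebraMap R D r)
      rw [φ.commutes])
    letI : Field (C ⧸ Q) := Ideal.Quotient.field Q
    haveI : Nontrivial (D ⧸ PD) := Ideal.Quotient.nontrivial_iff.2 fun h =>
      (maximalIdeal.isMaximal D).ne_top (top_le_iff.1 (h ▸ hPDm))
    haveI : Module.Finite k (C ⧸ Q) := Module.Finite.of_restrictScalars_finite R _ _
    haveI : Algebra.IsGeometricallyReduced k (C ⧸ Q) :=
      Algebra.IsGeometricallyReduced.of_injective θ' θ'.toRingHom.injective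
    exact CBC.GeomRedEtale.isSeparable_of_isGeometricallyReduced k (C ⧸ Q)
  letI : Algebra (Localization.AtPrime P) (Localization.AtPrime Q) := Localization.AtPrime.algebraOfLiesOver P Q
  haveI : Algebra.IsUnramifiedAt R Q := by
    refine Algebra.isUnramifiedAt_iff_map_eq R P Q |>.2 ⟨?_, hmax⟩
    exact Algebra.IsSeparable.of_equiv_equiv
      (RingEquiv.ofBijective (algebraMap (R ⧸ P) P.ResidueField) P.bijective_algebraMap_quotient_residueField)
      (RingEquiv.ofBijective (algebraMap (C ⧸ Q) Q.ResidueField) Q.bijective_algebraMap_quotient_residueField) (by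
      ext r
      simp [← IsScalarTower.algebraMap_apply])
  haveI : Module.Flat R C := inferInstance
  haveI : Module.Flat R (Localization.AtPrime Q) := Module.Flat.trans R C _
  exact EtStruct.isEtaleAt_of_isUnramifiedAt_of_flat Q

end core

end Groth.Agent.FinEtNeron67
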