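import Groth.Agent.FinEtNeron67.Alg

/-!
# The integral closure of a Dedekind domain in a finite étale algebra over its fraction field
-/

set_option autoImplicit false
set_option maxHeartbeats 1000000
universe u

open IsLocalRing nonZeroDivisors

noncomputable section

namespace Groth.Agent.FinEtNeron67

theorem formallyEtale_atPrime {R C E : Type u} [CommRing R] [CommRing C] [CommRing E] [Algebra R C] [Algebra R E]
    [Algebra C E] [IsScalarTower R C E] (M : Submonoid C) [IsLocalization M E] [Algebra.FormallyEtale R E]
    (Q : Ideal C) [Q.IsPrime] (hM : M ≤ Q.primeCompl) : Algebra.FormallyEtale R (Localization.AtPrime Q) := by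
  let g : E →+* Localization.AtPrime Q :=
    IsLocalization.lift (M := M) (g := algebraMap C (Localization.AtPrime Q))
      (fun s => IsLocalization.map_units (Localization.AtPrime Q) (⟨s, hM s.2⟩ : Q.primeCompl))
  letI : Algebra E (Localization.AtPrime Q) := g.toAlgebra
  haveI : IsScalarTower C E (Localization.AtPrime Q) := IsScalarTower.of_algebraMap_eq (R := C) (S := E) (A := Localization.AtPrime Q)
    fun c => (IsLocalization.lift_eq _ _).symm
  haveI : IsScalarTower R E (Localization.AtPrime Q) := IsScalarTower.of_algebraMap_eq (R := R) (S := E) (A := Localization.AtPrime Q)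
    fun r => by
      rw [IsScalarTower.algebraMap_apply R C (Localization.AtPrime Q), IsScalarTower.algebraMap_apply R C E,
        ← IsScalarTower.algebraMap_apply C E (Localization.AtPrime Q)]
  haveI : IsLocalization (Q.primeCompl.map (algebraMap C E)) (Localization.AtPrime Q) :=
    IsLocalization.isLocalization_of_submonoid_le E (Localization.AtPrime Q) M Q.primeCompl hM
  haveI : Algebra.FormallyEtale E (Localization.AtPrime Q) := Algebra.FormallyEtale.of_isLocalization (Q.primeCompl.map (algebraMap C E))
  exact Algebra.FormallyEtale.comp R E _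

variable {R : Type u} [CommRing R] [IsDedekindDomain R] {E : Type u} [CommRing E] [Algebra R E]
  [Algebra (FractionRing R) E] [IsScalarTower R (FractionRing R) E] [Algebra.Etale (FractionRing R) E]
  [Module.Finite (FractionRing R) E]

omit [Algebra.Etale (FractionRing R) E] in
theorem isLocalization_integralClosure :
    IsLocalization (Algebra.algebraMapSubmonoid (integralClosure R E) R⁰) E where
  map_units := by
    rintro ⟨_, r, hr, rfl⟩
    have : IsUnit (algebraMap (FractionRing R) E (algebraMap R (FractionRing R) r)) :=
      (IsUnit.mk0 _ (IsFractionRing.to_map_ne_zero_of_mem_nonZeroDivisors hr)).map _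
    rwa [← IsScalarTower.algebraMap_apply] at this
  surj z := by
    haveI : Algebra.IsAlgebraic (FractionRing R) E := inferInstance
    obtain ⟨m, hm⟩ := IsIntegral.exists_multiple_integral_of_isLocalization R⁰ z (Algebra.IsIntegral.isIntegral (R := FractionRing R) z)
    refine ⟨(⟨m • z, hm⟩, ⟨algebraMap R _ m, m, m.2, rfl⟩), ?_⟩
    show z * algebraMap R E m = (m : R) • z
    rw [Algebra.smul_def, mul_comm]
  exists_of_eq {x y} h := ⟨1, by simp [Subtype.ext h]⟩

include R in
theorem isReduced_of_etale : IsReduced E := Algebra.FormallyUnramified.isReduced_of_field (FractionRing R) E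

theorem finite_integralClosure : Module.Finite R (integralClosure R E) := by
  haveI : IsArtinianRing E := IsArtinianRing.of_finite (FractionRing R) E
  haveI := isReduced_of_etale (R := R) (E := E)
  let F := fun m : MaximalSpectrum E => E ⧸ m.asIdeal
  letI : ∀ m, Field (F m) := fun m => Ideal.Quotient.field m.asIdeal
  have hfin : ∀ m, Module.Finite R (integralClosure R (F m)) := fun m => by
    haveI : Algebra.FormallyUnramified (FractionRing R) (F m) :=
      Algebra.FormallyUnramified.of_surjective (Ideal.Quotient.mkₐ (FractionRing R) m.asIdeal) Ideal.Quotient.mk_surjective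
    haveI : Algebra.IsSeparable (FractionRing R) (F m) := Algebra.FormallyUnramified.isSeparable _ _
    exact IsIntegralClosure.finite R (FractionRing R) (F m) (integralClosure R (F m))
  let f : integralClosure R E →ₗ[R] (m : MaximalSpectrum E) → integralClosure R (F m) :=
    LinearMap.pi fun m => ((Ideal.Quotient.mkₐ R m.asIdeal).mapIntegralClosure).toLinearMap
  have hf : Function.Injective f := fun x y h => by
    refine Subtype.ext ((IsArtinianRing.equivPi E).injective (funext fun m => ?_))
    exact congrArg Subtype.val (congrFun h m)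
  exact Module.Finite.of_injective f hf

variable {B : Type u} [CommRing B] [Algebra R B] [Algebra.Smooth R B]

/-- Points over the generic point are étale points. -/
theorem isEtaleAt_of_comap_eq_bot (Q : Ideal (integralClosure R E)) [Q.IsPrime]
    (hQ : Q.comap (algebraMap R (integralClosure R E)) = ⊥) : Algebra.IsEtaleAt R Q := by
  haveI := isLocalization_integralClosure (R := R) (E := E)
  let C := integralClosure R E
  have hdisj : ∀ c ∈ Algebra.algebraMapSubmonoid C R⁰, c ∈ Q.primeCompl := by
    rintro _ ⟨r, hr, rfl⟩ hc
    have : r ∈ Q.comap (algebraMap R (integralClosure R E)) := hc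
    rw [hQ] at this
    exact nonZeroDivisors.ne_zero hr this
  haveI : Algebra.FormallyEtale R (FractionRing R) := Algebra.FormallyEtale.of_isLocalization R⁰
  haveI : Algebra.FormallyEtale R E := Algebra.FormallyEtale.comp R (FractionRing R) E
  exact formallyEtale_atPrime (E := E) (Algebra.algebraMapSubmonoid C R⁰) Q hdisj

/-- The centre in the integral closure of a point of a smooth algebra is an étale point. -/
theorem isEtaleAt_centre (φ : integralClosure R E →ₐ[R] B) (q : Ideal B) [q.IsPrime] :
    Algebra.IsEtaleAt R (q.comap φ.toRingHom) := by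
  haveI := isLocalization_integralClosure (R := R) (E := E)
  let C := integralClosure R E
  let Q := q.comap φ.toRingHom
  by_cases hP : q.under R = ⊥
  · refine isEtaleAt_of_comap_eq_bot Q ?_
    rw [← hP]
    show (q.comap φ.toRingHom).comap (algebraMap R C) = q.comap (algebraMap R B)
    rw [Ideal.comap_comap, show φ.toRingHom.comp (algebraMap R C) = algebraMap R B from φ.comp_algebraMap]
  let D := Localization.AtPrime q
  haveI : IsDomain D := isDomain_localization (R := R) q
  let φD : C →ₐ[R] D := (IsScalarTower.toAlgHom R B D).comp φ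
  let F := FractionRing D
  have hunit : ∀ c : Algebra.algebraMapSubmonoid C R⁰, IsUnit ((algebraMap D F).comp φD.toRingHom c) := by
    rintro ⟨_, r, hr, rfl⟩
    show IsUnit (algebraMap D F (φD (algebraMap R C r)))
    rw [φD.commutes]
    exact IsUnit.mk0 _ ((map_ne_zero_iff _ (IsFractionRing.injective D F)).2
      (algebraMap_ne_zero_localization q (nonZeroDivisors.ne_zero hr)))
  let χ : E →+* F := IsLocalization.lift hunit
  have hχ : ∀ c : C, χ (c : E) = algebraMap D F (φD c) := fun c => IsLocalization.lift_eq hunit c
  let I := RingHom.ker χ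
  haveI : I.IsPrime := RingHom.ker_isPrime χ
  haveI : IsArtinianRing E := IsArtinianRing.of_finite (FractionRing R) E
  haveI : I.IsMaximal := inferInstance
  haveI := isReduced_of_etale (R := R) (E := E)
  haveI := IsArtinianRing.isSemisimpleRing_of_isReduced E
  obtain ⟨e, he, heI⟩ := IsSemisimpleRing.ideal_eq_span_idempotent I
  let L := E ⧸ I
  letI : Field L := Ideal.Quotient.field I
  haveI : Algebra.FormallyUnramified (FractionRing R) L :=
    Algebra.FormallyUnramified.of_surjective (Ideal.Quotient.mkₐ (FractionRing R) I) Ideal.Quotient.mk_surjective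
  haveI : Algebra.IsSeparable (FractionRing R) L := Algebra.FormallyUnramified.isSeparable _ _
  let C' := integralClosure R L
  haveI : IsDedekindDomain C' := integralClosure.isDedekindDomain R (FractionRing R) L
  haveI : Module.Finite R C' := IsIntegralClosure.finite R (FractionRing R) L C'
  let π : C →ₐ[R] C' := (Ideal.Quotient.mkₐ R I).mapIntegralClosure
  have hπv : ∀ c : C, ((π c : C') : L) = Ideal.Quotient.mk I (c : E) := fun c => rfl
  have hπs : Function.Surjective π := by
    rintro ⟨y, hy⟩
    obtain ⟨y₁, rfl⟩ := Ideal.Quotient.mk_surjective y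
    obtain ⟨p, hp, hpy⟩ := hy
    let z := (1 - e) * y₁
    have hz : Ideal.Quotient.mk I z = Ideal.Quotient.mk I y₁ := by
      rw [Ideal.Quotient.eq, heI, Ideal.mem_span_singleton]
      exact ⟨-y₁, by ring⟩
    have hez : e * z = 0 := by rw [← mul_assoc, mul_sub, mul_one, he.eq, sub_self, zero_mul]
    have hpI : Polynomial.aeval z p ∈ I := by
      rw [← Ideal.Quotient.eq_zero_iff_mem]
      have := (Polynomial.aeval_algHom_apply (Ideal.Quotient.mkₐ R I) z p).symm
      change Ideal.Quotient.mk I (Polynomial.aeval z p) = _ at this
      rw [this, Ideal.Quotient.mkₐ_eq_mk, hz]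
      exact hpy
    rw [heI, Ideal.mem_span_singleton] at hpI
    obtain ⟨w, hw⟩ := hpI
    have hzi : IsIntegral R z := ⟨p * Polynomial.X, hp.mul Polynomial.monic_X, by
      show Polynomial.aeval z (p * Polynomial.X) = 0
      rw [map_mul, Polynomial.aeval_X, hw, mul_assoc, mul_comm w z, ← mul_assoc, hez, zero_mul]⟩
    exact ⟨⟨z, hzi⟩, Subtype.ext hz⟩
  have heint : IsIntegral R e := ⟨Polynomial.X ^ 2 - Polynomial.X,
    Polynomial.monic_X_pow_sub (by rw [Polynomial.degree_X]; norm_num), by
      show Polynomial.aeval e (Polynomial.X ^ 2 - Polynomial.X : Polynomial R) = 0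
      rw [map_sub, map_pow, Polynomial.aeval_X, pow_two, he.eq, sub_self]⟩
  let e' : C := ⟨e, heint⟩
  have he' : IsIdempotentElem (1 - e') := IsIdempotentElem.one_sub (Subtype.ext he.eq)
  have hker : RingHom.ker π.toRingHom = Ideal.span {1 - (1 - e')} := by
    rw [sub_sub_cancel]
    ext c
    rw [RingHom.mem_ker, Ideal.mem_span_singleton]
    constructor
    · intro h
      have h1 : (c : E) ∈ I := by
        rw [← Ideal.Quotient.eq_zero_iff_mem, ← hπv]
        exact congrArg Subtype.val h
      rw [heI, Ideal.mem_span_singleton] at h1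
      obtain ⟨w, hw⟩ := h1
      exact ⟨c, Subtype.ext (by
        show (c : E) = e * (c : E)
        rw [hw, ← mul_assoc, he.eq])⟩
    · rintro ⟨w, rfl⟩
      refine Subtype.ext ((hπv _).trans ?_)
      show Ideal.Quotient.mk I (e * (w : E)) = 0
      rw [Ideal.Quotient.eq_zero_iff_mem, heI]
      exact Ideal.mem_span_singleton.2 (dvd_mul_right _ _)
  letI : Algebra C C' := π.toRingHom.toAlgebra
  haveI : IsScalarTower R C C' := IsScalarTower.of_algebraMap_eq fun r => (π.commutes r).symm
  haveI : IsLocalization.Away (1 - e') C' := IsLocalization.away_of_isIdempotentElem he' hker hπs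
  have hφker : ∀ c : C, π c = 0 → φD c = 0 := fun c hc => by
    apply IsFractionRing.injective D F
    rw [map_zero, ← hχ]
    show (c : E) ∈ I
    rw [← Ideal.Quotient.eq_zero_iff_mem, ← hπv]
    exact congrArg Subtype.val hc
  let φ' : C' →ₐ[R] D := AlgHom.liftOfSurjective π hπs φD fun c hc => hφker c hc
  have hφ' : ∀ c, φ' (π c) = φD c := fun c => AlgHom.liftOfSurjective_apply _ _ _ _ c
  have hinj : Function.Injective φ' := by
    rw [injective_iff_map_eq_zero]
    intro c hc
    obtain ⟨c, rfl⟩ := hπs c
    rw [hφ'] at hc
    refine Subtype.ext ((hπv c).trans ?_)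
    show Ideal.Quotient.mk I (c : E) = 0
    rw [Ideal.Quotient.eq_zero_iff_mem]
    show χ (c : E) = 0
    rw [hχ, hc, map_zero]
  haveI : FaithfulSMul R C' := (faithfulSMul_iff_algebraMap_injective R C').2 fun a b h => by
    have h1 : algebraMap R L a = algebraMap R L b := congrArg Subtype.val h
    rw [IsScalarTower.algebraMap_apply R (FractionRing R) L, IsScalarTower.algebraMap_apply R (FractionRing R) L b] at h1
    exact IsFractionRing.injective R (FractionRing R) ((algebraMap (FractionRing R) L).injective h1)
  have het := isEtaleAt_of_injective q φ' hinj hP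
  let Q' := (maximalIdeal D).comap φ'.toRingHom
  have hQQ' : Q'.comap (algebraMap C C') = Q := by
    show ((maximalIdeal D).comap φ'.toRingHom).comap π.toRingHom = q.comap φ.toRingHom
    rw [Ideal.comap_comap, show φ'.toRingHom.comp π.toRingHom = (algebraMap B D).comp φ.toRingHom from RingHom.ext hφ',
      ← Ideal.comap_comap, show (maximalIdeal D).comap (algebraMap B D) = q from IsLocalization.AtPrime.under_maximalIdeal D q]
  let CQ' := Localization.AtPrime Q'
  haveI hloc := IsLocalization.isLocalization_isLocalization_atPrime_isLocalization (M := Submonoid.powers (1 - e')) CQ' Q'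
  haveI : IsLocalization.AtPrime CQ' Q := by
    convert hloc using 1
    exact hQQ'.symm
  haveI : Algebra.FormallyEtale R CQ' := het
  exact Algebra.FormallyEtale.of_equiv ((IsLocalization.algEquiv Q.primeCompl CQ' (Localization.AtPrime Q)).restrictScalars R)

omit [Algebra.Etale (FractionRing R) E] in
/-- Integral elements of a localization at nonzero base elements of a smooth algebra are sections. -/
theorem exists_of_isIntegral (BK : Type u) [CommRing BK] [Algebra R BK] [Algebra B BK] [IsScalarTower R B BK]
    [IsLocalization (Algebra.algebraMapSubmonoid B R⁰) BK] {x : BK} (hx : IsIntegral R x) :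
    ∃ b : B, algebraMap B BK b = x := by
  obtain ⟨⟨b, ⟨_, r, hr, rfl⟩⟩, hb⟩ := IsLocalization.surj (Algebra.algebraMapSubmonoid B R⁰) x
  suffices b ∈ Ideal.span {algebraMap R B r} by
    obtain ⟨c, hc⟩ := Ideal.mem_span_singleton.1 this
    refine ⟨c, (IsLocalization.map_units BK (⟨algebraMap R B r, r, hr, rfl⟩ : Algebra.algebraMapSubmonoid B R⁰)).mul_left_cancel ?_⟩
    rw [← map_mul, ← hc]
    exact hb.symm.trans (mul_comm _ _)
  refine Ideal.mem_of_localization_maximal (fun q _ => ?_)
  let D := Localization.AtPrime q
  haveI : IsDomain D := isDomain_localization (R := R) q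
  haveI : IsIntegrallyClosed D := isIntegrallyClosed_localization (R := R) q
  let F := FractionRing D
  have hunit : ∀ c : Algebra.algebraMapSubmonoid B R⁰, IsUnit ((algebraMap D F).comp (algebraMap B D) c) := by
    rintro ⟨_, s, hs, rfl⟩
    show IsUnit (algebraMap D F (algebraMap B D (algebraMap R B s)))
    rw [← IsScalarTower.algebraMap_apply R B D]
    exact IsUnit.mk0 _ ((map_ne_zero_iff _ (IsFractionRing.injective D F)).2
      (algebraMap_ne_zero_localization q (nonZeroDivisors.ne_zero hs)))
  let χ : BK →+* F := IsLocalization.lift hunit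
  have hχ : ∀ c : B, χ (algebraMap B BK c) = algebraMap D F (algebraMap B D c) := fun c => IsLocalization.lift_eq hunit c
  obtain ⟨p, hp, hpx⟩ := hx
  have hint : IsIntegral D (χ x) := ⟨p.map (algebraMap R D), hp.map _, by
    rw [Polynomial.eval₂_map, ← IsScalarTower.algebraMap_eq,
      show algebraMap R F = χ.comp (algebraMap R BK) from RingHom.ext fun a => by
        rw [RingHom.comp_apply, IsScalarTower.algebraMap_apply R B BK, hχ, ← IsScalarTower.algebraMap_apply R B D,
          ← IsScalarTower.algebraMap_apply R D F],
      ← Polynomial.hom_eval₂, hpx, map_zero]⟩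
  obtain ⟨d, hd⟩ := IsIntegrallyClosed.isIntegral_iff.1 hint
  rw [Ideal.map_span, Set.image_singleton, Ideal.mem_span_singleton]
  refine ⟨d, IsFractionRing.injective D F ?_⟩
  have := congrArg χ hb
  rw [map_mul, hχ, hχ] at this
  rw [map_mul, hd, mul_comm]
  exact this.symm

end Groth.Agent.FinEtNeron67
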